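import Cfsg.Agent.Lib.Spor.Fi22.O73.Image
import Cfsg.Agent.Lib.Spor.Fi22.Cosets
import Cfsg.Agent.Lib.Chev.G2J2.Induced

/-!
The subgroup of index 14080 is the simple orthogonal group in dimension seven over three elements.
-/

set_option autoImplicit false
set_option maxRecDepth 100000

namespace CfsgLib.Spor.Fi22.O73

open CfsgLib.PresCert Cfsg.Spor CfsgLib.OmegaSevenThree

/-- the letters of the generators -/
def kGens : List Fi22.Gen := [.b, .c, .d, .e, .f, .g, .h, .i]

/-- the numbers of the generators -/
def kNums : List ℕ := [1, 2, 3, 4, 5, 6, 7, 8]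

theorem kGens_idx : ∀ k < 8, idx (kGens.getD k .b) = kNums.getD k 0 := by decide

theorem emb_ok : (allBelow 351 fun p =>
    let e := Data.emb.half p
    Nat.blt e 3510 && allBelow p fun r => !Nat.beq (Data.emb.half r) e) = true := by
  decide +kernel

theorem link_ok : (allBelow 8 fun k => allBelow 351 fun p =>
    let q := Data.perm.img k p
    Nat.blt q 351 && Nat.beq (Perm.data.img (kNums.getD k 0) (Data.emb.half p))
      (Data.emb.half q)) = true := by
  decide +kernel

/-- the point of a point -/
noncomputable def point (p : Fin 351) : Fin Perm.data.n :=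
  ⟨Data.emb.half p, by
    have h := allBelow_spec emb_ok p p.2
    simp only [Bool.and_eq_true, Nat.blt_eq] at h
    exact h.1⟩

theorem point_inj : Function.Injective point := by
  intro i j e
  have e' : Data.emb.half i.val = Data.emb.half j.val := congrArg Fin.val e
  have key : ∀ a b : Fin 351, a.val < b.val → Data.emb.half a.val ≠ Data.emb.half b.val :=
    fun a b hab he => by
      have h := allBelow_spec emb_ok b b.2
      simp only [Bool.and_eq_true] at h
      have := allBelow_spec h.2 a.val hab
      simp [he] at this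
  rcases Nat.lt_trichotomy i.val j.val with hl | hl | hl
  exacts [absurd e' (key i j hl), Fin.ext hl, absurd e'.symm (key j i hl)]

/-- the eight generators -/
noncomputable def x (k : ℕ) : K :=
  ⟨gen (kGens.getD k .b), Subgroup.subset_closure ⟨_, by
    by_cases h : k < kGens.length
    · rw [List.getD_eq_getElem _ _ h]; exact List.getElem_mem h
    · rw [List.getD_eq_default _ _ (not_lt.1 h)]; exact List.mem_cons_self, rfl⟩⟩

theorem gens_top : Subgroup.closure {y : K | ∃ k < 8, x k = y} = ⊤ := by
  refine Subgroup.map_injective K.subtype_injective ?_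
  rw [MonoidHom.map_closure, ← MonoidHom.range_eq_map, Subgroup.range_subtype]
  refine le_antisymm ((Subgroup.closure_le _).2 ?_) ?_
  · rintro _ ⟨y, -, rfl⟩; exact y.2
  · conv_lhs => rw [K, lettersGroup]
    refine Subgroup.closure_mono ?_
    rintro _ ⟨l, hl, rfl⟩
    obtain ⟨k, hk, rfl⟩ := List.getElem_of_mem hl
    refine ⟨x k, ⟨k, hk, rfl⟩, ?_⟩
    show gen (kGens.getD k .b) = _
    rw [List.getD_eq_getElem kGens _ hk]
    rfl

theorem π_x {k : ℕ} (hk : k < 8) (i : Fin Perm.data.n) :
    ((π (x k : Cfsg.Spor.Fi22) i : Fin Perm.data.n) : ℕ) =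
      Perm.data.img (kNums.getD k 0) i := by
  rw [x, π_gen, kGens_idx k hk]

theorem orbit_inv : ∀ (h : K) (p : Fin 351), ∃ q, (π.comp K.subtype) h (point p) = point q := by
  refine CfsgLib.G2J2.exists_image (π.comp K.subtype) point_inj gens_top ?_
  rintro h ⟨k, hk, rfl⟩ p
  have e := allBelow_spec (allBelow_spec link_ok k hk) p p.2
  simp only [Bool.and_eq_true, Nat.blt_eq, Nat.beq_eq] at e
  exact ⟨⟨_, e.1⟩, Fin.ext ((π_x hk _).trans e.2)⟩

/-- the action on 351 points -/
noncomputable def ρ : K →* Equiv.Perm (Fin 351) :=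
  CfsgLib.G2J2.indHom (π.comp K.subtype) point_inj orbit_inv

theorem ρ_x (k : ℕ) (hk : k < 8) (p : Fin 351) :
    ((ρ (x k) p : Fin 351) : ℕ) = Data.perm.img k p := by
  have e := allBelow_spec (allBelow_spec link_ok k hk) p p.2
  simp only [Bool.and_eq_true, Nat.blt_eq, Nat.beq_eq] at e
  exact congrArg Fin.val
    (CfsgLib.G2J2.indHom_eq (π.comp K.subtype) point_inj orbit_inv (j := ⟨_, e.1⟩)
      (Fin.ext ((π_x hk _).trans e.2)))

theorem equiv_omega : Nonempty (K ≃* (Om ⧸ Subgroup.center Om)) := by
  haveI : Finite Cfsg.Spor.Fi22 := CfsgLib.Spor.Fi22.finite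
  exact exists_equiv card_K_le.2 ρ x ρ_x gens_top

end CfsgLib.Spor.Fi22.O73
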