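import Cfsg.Agent.Lib.Spor.Fi22.O73.Data
import Cfsg.Agent.Lib.Spor.Fi22.O73.Center
import Cfsg.Agent.Lib.OmegaSevenThree.Bil
import Cfsg.Agent.Lib.PresCert.PermSound

/-!
The group of degree 351 is the simple orthogonal group in dimension seven over three elements.
-/

set_option autoImplicit false
set_option maxRecDepth 100000

namespace CfsgLib.Spor.Fi22.O73

open Matrix CfsgLib.PresCert CfsgLib.OmegaSevenThree

/-- a word of odd order whose product with the generator has odd order too, with both orders -/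
def oddWords : List (List Nat × Nat × Nat) := [([7, 0, 2, 4, 5, 4, 6, 7, 3, 4, 6, 1], 13, 9), ([3, 6, 1, 1, 2, 7, 5, 4], 7, 9), ([1, 5, 1, 7, 1, 4, 2, 3, 6], 9, 7), ([7, 4, 0, 7, 0, 2, 6, 1, 5, 0], 15, 9), ([3, 3, 3, 0, 5, 1, 5, 2, 4, 3, 5, 6], 15, 9), ([2, 1, 6, 2, 3, 7, 4, 0, 7, 6, 5, 5], 9, 7), ([2, 2, 0, 5, 6, 2, 4, 3, 5, 5, 1], 9, 7), ([2, 7, 7, 0, 0, 1, 5, 3, 6, 0, 4], 9, 13)]

/-- code of a point -/
noncomputable def ptC (p : ℕ) : ℕ := Data.pts.half p

/-- index of a code -/
noncomputable def idxC (x : ℕ) : ℕ := Data.idx.half x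

/-- code of the negative -/
def negC (x : ℕ) : ℕ := (M7.neg.mv (V7.dec x)).enc

/-- the quadratic form on codes -/
def qC (x : ℕ) : ℕ := (2 * (V7.dec x).dot (V7.gram (V7.dec x))) % 3

/-- matrix of a generator -/
def matM (k : ℕ) : M7 :=
  let l := Data.mats.getD k []
  M7.ofRows (l.getD 0 0) (l.getD 1 0) (l.getD 2 0) (l.getD 3 0) (l.getD 4 0) (l.getD 5 0) (l.getD 6 0)

theorem mats_ok : (allBelow 8 fun k =>
    M7.beq (M7.mul (matM k) (matM k)) M7.one && (matM k).isIso) = true := by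
  decide +kernel

theorem matM_spec (k : ℕ) (hk : k < 8) :
    M7.mul (matM k) (matM k) = M7.one ∧ (matM k).isIso = true := by
  have h := allBelow_spec mats_ok k hk
  simp only [Bool.and_eq_true] at h
  exact ⟨M7.eq_of_beq h.1, h.2⟩

/-- a generator as an isometry -/
def iso (k : ℕ) : O7 :=
  if hk : k < 8 then mkIso (matM k) (matM k) (matM_spec k hk).1 (matM_spec k hk).1 (matM_spec k hk).2
  else 1

theorem mat_iso {k : ℕ} (hk : k < 8) : mat (iso k) = toMat (matM k) := by
  rw [iso, dif_pos hk]; exact mat_mkIso _ _ _ _ _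

/-- matrix of a word -/
def prodM : List ℕ → M7
  | [] => M7.one
  | k :: w => M7.mul (matM k) (prodM w)

/-- power of a matrix -/
def powM (A : M7) : ℕ → M7
  | 0 => M7.one
  | n + 1 => M7.mul A (powM A n)

theorem toMat_powM (A : M7) : ∀ n, toMat (powM A n) = toMat A ^ n
  | 0 => by rw [powM, toMat_one, pow_zero]
  | n + 1 => by rw [powM, toMat_mul, toMat_powM A n, pow_succ']

theorem mat_pow (g : O7) : ∀ n, mat (g ^ n) = mat g ^ n
  | 0 => by rw [pow_zero, pow_zero, mat_one]
  | n + 1 => by rw [pow_succ, mat_mul, mat_pow g n, pow_succ]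

theorem mat_prod : ∀ w : List ℕ, (∀ k ∈ w, k < 8) → mat (w.map iso).prod = toMat (prodM w)
  | [], _ => by simp [prodM, toMat_one, mat_one]
  | k :: w, h => by
    rw [List.map_cons, List.prod_cons, mat_mul, mat_iso (h k (List.mem_cons_self ..)),
      mat_prod w fun j hj => h j (List.mem_cons_of_mem _ hj), prodM, toMat_mul]

/-- test of one generator -/
def okOdd (k : ℕ) : Bool :=
  let e := oddWords.getD k ([], 1, 1)
  (e.1.all fun j => Nat.blt j 8) && (e.2.1 % 2 == 1) && (e.2.2 % 2 == 1) &&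
    M7.beq (powM (prodM e.1) e.2.1) M7.one && M7.beq (powM (prodM (k :: e.1)) e.2.2) M7.one

theorem odd_ok : (allBelow 8 okOdd) = true := by decide +kernel

theorem mem_omega_of_odd {g : O7} {o : ℕ} (ho : o % 2 = 1) (h : g ^ o = 1) : g ∈ Om := by
  obtain ⟨m, j, e⟩ : ∃ m j : ℕ, 4 * m = o * j + 1 := by
    rcases (show o % 4 = 1 ∨ o % 4 = 3 by omega) with h1 | h1
    · exact ⟨(3 * o + 1) / 4, 3, by omega⟩
    · exact ⟨(o + 1) / 4, 1, by omega⟩
  have h4 : g ^ 4 ∈ Om := card_omega_mul.2 ▸ Subgroup.pow_index_mem Om g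
  have := Subgroup.pow_mem Om h4 m
  rwa [← pow_mul, e, pow_succ, pow_mul, h, one_pow, one_mul] at this

theorem iso_mem {k : ℕ} (hk : k < 8) : iso k ∈ Om := by
  have h := allBelow_spec odd_ok k hk
  simp only [okOdd, Bool.and_eq_true, List.all_eq_true, Nat.blt_eq, beq_iff_eq] at h
  obtain ⟨⟨⟨⟨hw, h1⟩, h2⟩, h3⟩, h4⟩ := h
  set e := oddWords.getD k ([], 1, 1)
  have ha : (e.1.map iso).prod ∈ Om := mem_omega_of_odd h1 (mat_injective (by
    rw [mat_pow, mat_prod _ hw, ← toMat_powM, M7.eq_of_beq h3, toMat_one, mat_one]))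
  have hb : iso k * (e.1.map iso).prod ∈ Om := mem_omega_of_odd h2 (mat_injective (by
    rw [mat_pow, mat_mul, mat_iso hk, mat_prod _ hw, ← toMat_mul,
      show M7.mul (matM k) (prodM e.1) = prodM (k :: e.1) from rfl, ← toMat_powM, M7.eq_of_beq h4,
      toMat_one, mat_one]))
  simpa using mul_mem hb (inv_mem ha)

theorem pts_ok : (allBelow 351 fun p =>
    Nat.beq (qC (ptC p)) 2 && Nat.blt (ptC p) 2187 && Nat.beq (idxC (ptC p)) p &&
      Nat.beq (idxC (negC (ptC p))) p) = true := by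
  decide +kernel

theorem idx_ok : (allBelow 2187 fun x => !Nat.beq (qC x) 2 ||
    (Nat.blt (idxC x) 351 && (Nat.beq (ptC (idxC x)) x || Nat.beq (negC (ptC (idxC x))) x))) = true := by
  decide +kernel

theorem qf_dec (x : ℕ) : qf (toVec (V7.dec x)) = ((qC x : ℕ) : ZMod 3) := by
  rw [qf, quadForm_eq, ← toVec_gram, qC, ZMod.natCast_mod, Nat.cast_mul, V7.dot, ZMod.natCast_mod]
  congr 1
  simp only [dotProduct, toVec]
  rw [sum_ix fun k => (((V7.dec x).get k : ℕ) : ZMod 3) *
    (((V7.gram (V7.dec x)).get k : ℕ) : ZMod 3), Fin.sum_univ_seven]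
  simp [V7.get]

theorem dec_enc {u : V7} (h : ∀ k, u.get k < 3) : V7.dec u.enc = u := by
  obtain ⟨a, b, c, d, e, f, g⟩ := u
  have ha : a < 3 := h 0
  have hb : b < 3 := h 1
  have hc : c < 3 := h 2
  have hd : d < 3 := h 3
  have he : e < 3 := h 4
  have hf : f < 3 := h 5
  have hg : g < 3 := h 6
  simp only [V7.dec, V7.enc, V7.mk.injEq]
  omega

theorem mv_lt (M : M7) (v : V7) (k : Fin 7) : (M.mv v).get k < 3 := by
  rw [get_mv]; exact Nat.mod_lt _ (by norm_num)

theorem enc_mv_lt (M : M7) (v : V7) : (M.mv v).enc < 2187 := by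
  have h := mv_lt M v
  have ha : (M.mv v).a < 3 := h 0
  have hb : (M.mv v).b < 3 := h 1
  have hc : (M.mv v).c < 3 := h 2
  have hd : (M.mv v).d < 3 := h 3
  have he : (M.mv v).e < 3 := h 4
  have hf : (M.mv v).f < 3 := h 5
  have hg : (M.mv v).g < 3 := h 6
  simp only [V7.enc]; omega

theorem vec_negC (x : ℕ) : toVec (V7.dec (negC x)) = -toVec (V7.dec x) := by
  rw [negC, dec_enc (mv_lt _ _), toVec_mv, toMat_neg, neg_mulVec, one_mulVec]

/-- a point as a vector -/
noncomputable def pt (p : Fin 351) : I7 → ZMod 3 := toVec (V7.dec (ptC p))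

theorem pt_spec (p : Fin 351) : qf (pt p) = 2 ∧ ptC p < 2187 := by
  have h := allBelow_spec pts_ok p p.2
  simp only [Bool.and_eq_true, Nat.beq_eq, Nat.blt_eq] at h
  obtain ⟨⟨⟨h1, h2⟩, -⟩, -⟩ := h
  exact ⟨by rw [pt, qf_dec, h1]; rfl, h2⟩

theorem pt_unique {p r : Fin 351} (h : pt p = pt r ∨ pt p = -pt r) : p = r := by
  have hp := allBelow_spec pts_ok p p.2
  have hr := allBelow_spec pts_ok r r.2
  simp only [Bool.and_eq_true, Nat.beq_eq, Nat.blt_eq] at hp hr
  obtain ⟨⟨⟨-, hp2⟩, hp3⟩, -⟩ := hp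
  obtain ⟨⟨⟨-, hr2⟩, hr3⟩, hr4⟩ := hr
  have inj : ∀ a b : ℕ, a < 2187 → b < 2187 → toVec (V7.dec a) = toVec (V7.dec b) → a = b :=
    fun a b ha hb e => congrArg Fin.val (vecOf_bijective.1 (a₁ := ⟨a, ha⟩) (a₂ := ⟨b, hb⟩) e)
  have hneg : negC (ptC r) < 2187 := enc_mv_lt _ _
  rcases h with h | h
  · have := inj _ _ hp2 hr2 h
    rw [this] at hp3
    exact Fin.ext (hp3.symm.trans hr3)
  · rw [pt, pt, ← vec_negC] at h
    have := inj _ _ hp2 hneg h
    rw [this] at hp3
    exact Fin.ext (hp3.symm.trans hr4)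

theorem exists_index {v : I7 → ZMod 3} (hv : qf v = 2) : ∃ p, v = pt p ∨ v = -pt p := by
  obtain ⟨x, rfl⟩ := vecOf_bijective.2 v
  rw [vecOf, qf_dec] at hv
  have hq : qC x = 2 := by
    have hlt : qC x < 3 := Nat.mod_lt _ (by norm_num)
    have := congrArg ZMod.val hv
    rwa [ZMod.val_natCast, Nat.mod_eq_of_lt hlt] at this
  have h := allBelow_spec idx_ok x x.2
  simp only [hq, Bool.or_eq_true, Bool.and_eq_true, Nat.beq_eq, Nat.blt_eq, Nat.beq_refl,
    Bool.not_true, Bool.false_eq_true, false_or] at h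
  refine ⟨⟨_, h.1⟩, ?_⟩
  rcases h.2 with e | e
  · left; rw [pt, e]; rfl
  · right
    rw [pt, ← vec_negC, e]; rfl

theorem exists_image (g : O7) (p : Fin 351) :
    ∃ r, mat g *ᵥ pt p = pt r ∨ mat g *ᵥ pt p = -pt r :=
  exists_index (by rw [qf_mat, (pt_spec p).1])

/-- image of a point -/
noncomputable def imgFun (g : O7) (p : Fin 351) : Fin 351 := (exists_image g p).choose

theorem imgFun_eq {g : O7} {p r : Fin 351}
    (h : mat g *ᵥ pt p = pt r ∨ mat g *ᵥ pt p = -pt r) : imgFun g p = r := by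
  have h' : mat g *ᵥ pt p = pt (imgFun g p) ∨ mat g *ᵥ pt p = -pt (imgFun g p) :=
    (exists_image g p).choose_spec
  refine pt_unique ?_
  generalize imgFun g p = r' at h' ⊢
  generalize mat g *ᵥ pt p = w at h h'
  rcases h with rfl | rfl <;> rcases h' with h' | h'
  · exact Or.inl h'.symm
  · exact Or.inr (by rw [h', neg_neg])
  · exact Or.inr h'.symm
  · exact Or.inl (neg_injective h').symm

theorem imgFun_one (p : Fin 351) : imgFun 1 p = p :=
  imgFun_eq (Or.inl (by rw [mat_one, one_mulVec]))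

theorem imgFun_mul (g k : O7) (p : Fin 351) : imgFun (g * k) p = imgFun g (imgFun k p) := by
  have hk : mat k *ᵥ pt p = pt (imgFun k p) ∨ mat k *ᵥ pt p = -pt (imgFun k p) :=
    (exists_image k p).choose_spec
  have hg : mat g *ᵥ pt (imgFun k p) = pt (imgFun g (imgFun k p)) ∨
      mat g *ᵥ pt (imgFun k p) = -pt (imgFun g (imgFun k p)) :=
    (exists_image g (imgFun k p)).choose_spec
  refine imgFun_eq ?_
  rw [mat_mul, ← mulVec_mulVec]
  rcases hk with hk | hk <;> rcases hg with hg | hg <;> rw [hk]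
  · exact Or.inl hg
  · exact Or.inr hg
  · exact Or.inr (by rw [mulVec_neg, hg])
  · exact Or.inl (by rw [mulVec_neg, hg, neg_neg])

/-- the action on points -/
noncomputable def pointHom : Om →* Equiv.Perm (Fin 351) :=
  (MonoidHom.mk'
    (fun g => ⟨imgFun g, imgFun g⁻¹,
      fun p => by rw [← imgFun_mul, inv_mul_cancel, imgFun_one],
      fun p => by rw [← imgFun_mul, mul_inv_cancel, imgFun_one]⟩)
    fun g k => Equiv.ext fun p => imgFun_mul g k p : O7 →* Equiv.Perm (Fin 351)).comp Om.subtype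

/-- a generator in the commutator subgroup -/
def lift (k : ℕ) : Om := if hk : k < 8 then ⟨iso k, iso_mem hk⟩ else 1

theorem img_ok : (allBelow 8 fun k => allBelow 351 fun p =>
    let q := Data.perm.img k p
    let w := ((matM k).mv (V7.dec (ptC p))).enc
    Nat.blt q 351 && Nat.blt w 2187 && ((matM k).mv (V7.dec (ptC p))).beq (V7.dec w) &&
      (Nat.beq (ptC q) w || Nat.beq (negC (ptC q)) w)) = true := by
  decide +kernel

theorem lift_img (k : ℕ) (hk : k < 8) (p : Fin 351) :
    ((pointHom (lift k) p : Fin 351) : ℕ) = Data.perm.img k p := by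
  have h := allBelow_spec (allBelow_spec img_ok k hk) p p.2
  simp only [Bool.and_eq_true, Bool.or_eq_true, Nat.blt_eq, Nat.beq_eq] at h
  obtain ⟨⟨⟨hq, -⟩, hb⟩, hw⟩ := h
  rw [lift, dif_pos hk]
  show ((imgFun (iso k) p : Fin 351) : ℕ) = _
  refine congrArg Fin.val (imgFun_eq (r := ⟨_, hq⟩) ?_)
  rw [mat_iso hk, pt, ← toVec_mv, V7.eq_of_beq hb]
  rcases hw with e | e
  · exact Or.inl (by rw [pt, e])
  · exact Or.inr (by rw [pt, ← vec_negC, e])

theorem words_ok : Data.perm.okWords Data.perm.g Data.perm.words = true := by decide +kernel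

theorem levels_ok : Data.perm.okLevels [] Data.levels = true := by decide +kernel

theorem levels_prod : (Data.levels.map Level.len).prod = 4585351680 := by decide +kernel

/-- A group of order at most that of the orthogonal group, with the given permutation image,
is isomorphic to it. -/
theorem exists_equiv {G : Type*} [Group G] [Finite G] (hcard : Nat.card G ≤ 4585351680)
    (ρ : G →* Equiv.Perm (Fin 351)) (x : ℕ → G)
    (hx : ∀ k < 8, ∀ p : Fin 351, ((ρ (x k) p : Fin 351) : ℕ) = Data.perm.img k p)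
    (hgen : Subgroup.closure {y | ∃ k < 8, x k = y} = ⊤) :
    Nonempty (G ≃* (Om ⧸ Subgroup.center Om)) := by
  haveI : Finite Om := Nat.finite_of_card_ne_zero (by rw [card_omega]; norm_num)
  have hle : ρ.range ≤ pointHom.range := by
    rw [MonoidHom.range_eq_map, ← hgen, MonoidHom.map_closure, Subgroup.closure_le]
    rintro _ ⟨_, ⟨k, hk, rfl⟩, rfl⟩
    exact ⟨lift k, Equiv.ext fun p => Fin.ext (by rw [lift_img k hk p, hx k hk p])⟩
  have hlow : 4585351680 ≤ Nat.card ρ.range := by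
    have h := PermData.le_card_of_hom (D := Data.perm) (⊤ : Subgroup ρ.range) ρ.range.subtype
      (fun k hk => ⟨ρ.rangeRestrict (x k), trivial, hx k hk⟩) words_ok Data.levels levels_ok
    rwa [levels_prod, Subgroup.card_top] at h
  have hρ : Nat.card ρ.range ≤ Nat.card G :=
    Nat.card_le_card_of_surjective _ ρ.rangeRestrict_surjective
  haveI : Finite pointHom.range := Finite.of_injective _ Subtype.val_injective
  have hψ : Nat.card pointHom.range ≤ 4585351680 := by
    rw [← card_omega]; exact Nat.card_le_card_of_surjective _ pointHom.rangeRestrict_surjective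
  have hsub : Nat.card ρ.range ≤ Nat.card pointHom.range :=
    Nat.le_of_dvd Nat.card_pos (Subgroup.card_dvd_of_le hle)
  have heq : ρ.range = pointHom.range := Subgroup.eq_of_le_of_card_ge hle (hψ.trans hlow)
  have bρ : Function.Bijective ρ.rangeRestrict :=
    (Nat.bijective_iff_surjective_and_card _).2 ⟨ρ.rangeRestrict_surjective, by omega⟩
  have bψ : Function.Bijective pointHom.rangeRestrict :=
    (Nat.bijective_iff_surjective_and_card _).2
      ⟨pointHom.rangeRestrict_surjective, by rw [card_omega]; omega⟩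
  exact ⟨(((MulEquiv.ofBijective _ bρ).trans (MulEquiv.subgroupCongr heq)).trans
    (MulEquiv.ofBijective _ bψ).symm).trans
    ((QuotientGroup.quotientBot (G := Om)).symm.trans
      (QuotientGroup.quotientMulEquivOfEq center_bot.symm))⟩

end CfsgLib.Spor.Fi22.O73
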